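import Groth.Agent.RelVALib.AffBaseChange
import Mathlib.AlgebraicGeometry.Morphisms.Etale
import Mathlib.AlgebraicGeometry.Morphisms.FormallyUnramified

/-!
# The counit `p^* p_* V ⟶ V` of a finite etale morphism is a split epimorphism
-/

set_option autoImplicit false
set_option backward.isDefEq.respectTransparency false
set_option maxHeartbeats 800000

universe u

open AlgebraicGeometry CategoryTheory CategoryTheory.Limits TopologicalSpace Opposite
open Groth.Agent.Coherent Groth.Agent.PicLib Groth.Agent.AmpleLib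

namespace Groth.Agent.FinEtSplit28

open TwistLib.G in
/-- For an open and closed immersion the unit `M ⟶ j_* (M|_U)` is a split epimorphism. -/
theorem isSplitEpi_unit {X Y : Scheme.{u}} (j : X ⟶ Y) [IsOpenImmersion j] [IsClosedImmersion j]
    (M : Y.Modules) : IsSplitEpi ((Scheme.Modules.restrictAdjunction j).unit.app M) := by
  let W : Y.Opens := ⟨(Set.range j)ᶜ, j.isClosedEmbedding.isClosed_range.isOpen_compl⟩
  let η₁ := (Scheme.Modules.restrictAdjunction j).unit.app M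
  let η₂ := (Scheme.Modules.restrictAdjunction W.ι).unit.app M
  let φ := biprod.lift η₁ η₂
  let p₁ : (Scheme.Modules.pushforward j).obj (M.restrict j) ⊞ (Scheme.Modules.pushforward W.ι).obj (M.restrict W.ι) ⟶
      (Scheme.Modules.pushforward j).obj (M.restrict j) := biprod.fst
  let p₂ : (Scheme.Modules.pushforward j).obj (M.restrict j) ⊞ (Scheme.Modules.pushforward W.ι).obj (M.restrict W.ι) ⟶
      (Scheme.Modules.pushforward W.ι).obj (M.restrict W.ι) := biprod.snd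
  let i₁ : (Scheme.Modules.pushforward j).obj (M.restrict j) ⟶ (Scheme.Modules.pushforward j).obj (M.restrict j) ⊞
      (Scheme.Modules.pushforward W.ι).obj (M.restrict W.ι) := biprod.inl
  let i₂ : (Scheme.Modules.pushforward W.ι).obj (M.restrict W.ι) ⟶ (Scheme.Modules.pushforward j).obj (M.restrict j) ⊞
      (Scheme.Modules.pushforward W.ι).obj (M.restrict W.ι) := biprod.inr
  have hbij₁ : ∀ B : Y.Opens, (B : Set Y) ⊆ Set.range j → Function.Bijective (η₁.app B) := fun B hB => by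
    have he : j ''ᵁ (j ⁻¹ᵁ B) = B := by
      apply le_antisymm (j.image_preimage_le B)
      intro y hy
      obtain ⟨x, rfl⟩ := hB hy
      exact ⟨x, hy, rfl⟩
    have : IsIso (η₁.app B) := by
      rw [Scheme.Modules.restrictAdjunction_unit_app_app]
      have : IsIso (homOfLE (j.image_preimage_le B)).op :=
        ⟨(eqToHom he.symm).op, Subsingleton.elim _ _, Subsingleton.elim _ _⟩
      infer_instance
    exact ConcreteCategory.bijective_of_isIso (η₁.app B)
  have hbij₂ : ∀ B : Y.Opens, B ≤ W → Function.Bijective (η₂.app B) := fun B hB => by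
    have he : W.ι ''ᵁ (W.ι ⁻¹ᵁ B) = B := by
      apply le_antisymm (W.ι.image_preimage_le B)
      intro y hy
      exact ⟨⟨y, hB hy⟩, hy, rfl⟩
    have : IsIso (η₂.app B) := by
      rw [Scheme.Modules.restrictAdjunction_unit_app_app]
      have : IsIso (homOfLE (W.ι.image_preimage_le B)).op :=
        ⟨(eqToHom he.symm).op, Subsingleton.elim _ _, Subsingleton.elim _ _⟩
      infer_instance
    exact ConcreteCategory.bijective_of_isIso (η₂.app B)
  have hz₂ : ∀ B : Y.Opens, (B : Set Y) ⊆ Set.range j →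
      Subsingleton Γ((Scheme.Modules.pushforward W.ι).obj (M.restrict W.ι), B) := fun B hB => by
    refine ⟨fun a b => sec_ext (U := W.ι ''ᵁ (W.ι ⁻¹ᵁ B)) M a b fun y hy => ?_⟩
    obtain ⟨⟨y', hy'⟩, hy'B, rfl⟩ := hy
    exact absurd (hB hy'B) hy'
  have hz₁ : ∀ B : Y.Opens, B ≤ W →
      Subsingleton Γ((Scheme.Modules.pushforward j).obj (M.restrict j), B) := fun B hB => by
    refine ⟨fun a b => sec_ext (U := j ''ᵁ (j ⁻¹ᵁ B)) M a b fun y hy => ?_⟩
    obtain ⟨x, hx, rfl⟩ := hy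
    exact absurd ⟨x, rfl⟩ (hB hx)
  have e₁ : ∀ B s, p₁.app B (φ.app B s) = η₁.app B s := fun B s => by
    show (φ ≫ p₁).app B s = _
    rw [show φ ≫ p₁ = η₁ from biprod.lift_fst _ _]
    rfl
  have e₂ : ∀ B s, p₂.app B (φ.app B s) = η₂.app B s := fun B s => by
    show (φ ≫ p₂).app B s = _
    rw [show φ ≫ p₂ = η₂ from biprod.lift_snd _ _]
    rfl
  have hext : ∀ B (a b : Γ((Scheme.Modules.pushforward j).obj (M.restrict j) ⊞
      (Scheme.Modules.pushforward W.ι).obj (M.restrict W.ι), B)),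
      p₁.app B a = p₁.app B b → p₂.app B a = p₂.app B b → a = b := by
    intro B a b h1 h2
    have key : ∀ c, i₁.app B (p₁.app B c) + i₂.app B (p₂.app B c) = c := by
      intro c
      exact congrArg (fun (ψ : (Scheme.Modules.pushforward j).obj (M.restrict j) ⊞
        (Scheme.Modules.pushforward W.ι).obj (M.restrict W.ι) ⟶ _) => ψ.app B c) (biprod.total
          (X := (Scheme.Modules.pushforward j).obj (M.restrict j))
          (Y := (Scheme.Modules.pushforward W.ι).obj (M.restrict W.ι)))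
    rw [← key a, ← key b, h1, h2]
  have : IsIso φ := by
    refine isIso_of_bijective_on_basis φ (fun B => (B : Set Y) ⊆ Set.range j ∨ B ≤ W) ?_ ?_
    · intro V y hy
      by_cases h : y ∈ Set.range j
      · exact ⟨V ⊓ j.opensRange, .inl fun z hz => hz.2, ⟨hy, h⟩, inf_le_left⟩
      · exact ⟨V ⊓ W, .inr inf_le_right, ⟨hy, h⟩, inf_le_left⟩
    rintro B (hB | hB)
    · have := hz₂ B hB
      refine ⟨fun a b h => (hbij₁ B hB).1 ?_, fun x => ?_⟩
      · rw [← e₁, ← e₁, h]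
      · obtain ⟨s, hs⟩ := (hbij₁ B hB).2 (p₁.app B x)
        exact ⟨s, hext B _ _ (by rw [e₁, hs]) (Subsingleton.elim _ _)⟩
    · have := hz₁ B hB
      refine ⟨fun a b h => (hbij₂ B hB).1 ?_, fun x => ?_⟩
      · rw [← e₂, ← e₂, h]
      · obtain ⟨s, hs⟩ := (hbij₂ B hB).2 (p₂.app B x)
        exact ⟨s, hext B _ _ (Subsingleton.elim _ _) (by rw [e₂, hs])⟩
  refine IsSplitEpi.mk' ⟨i₁ ≫ inv φ, ?_⟩
  show (i₁ ≫ inv φ) ≫ η₁ = 𝟙 _
  rw [Category.assoc, show η₁ = φ ≫ p₁ from (biprod.lift_fst _ _).symm, IsIso.inv_hom_id_assoc]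
  exact biprod.inl_fst

theorem key_sec {X X' Z : Scheme.{u}} (π₁ π₂ : Z ⟶ X') (Δ : X' ⟶ Z) (p : X' ⟶ X) (hw : π₂ ≫ p = π₁ ≫ p)
    (hΔ₁ : Δ ≫ π₁ = 𝟙 X') (hΔ₂ : Δ ≫ π₂ = 𝟙 X') {P : Z.Modules} {V : X'.Modules}
    (r : P ⟶ (Scheme.Modules.pushforward Δ).obj V) (W : X.Opens) (y : Γ(P, π₂ ⁻¹ᵁ (p ⁻¹ᵁ W))) :
    (((Scheme.Modules.pushforwardComp Δ π₁ ≪≫ Scheme.Modules.pushforwardCongr hΔ₁ ≪≫
        Scheme.Modules.pushforwardId X').hom.app V).app (p ⁻¹ᵁ W))
      (r.app (π₁ ⁻¹ᵁ (p ⁻¹ᵁ W)) (resM P (show π₁ ⁻¹ᵁ (p ⁻¹ᵁ W) ≤ π₂ ⁻¹ᵁ (p ⁻¹ᵁ W) from le_of_eq (show (π₁ ≫ p) ⁻¹ᵁ W = (π₂ ≫ p) ⁻¹ᵁ W by rw [hw])) y)) =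
    (((Scheme.Modules.pushforwardComp Δ π₂ ≪≫ Scheme.Modules.pushforwardCongr hΔ₂ ≪≫
        Scheme.Modules.pushforwardId X').hom.app V).app (p ⁻¹ᵁ W))
      (r.app (π₂ ⁻¹ᵁ (p ⁻¹ᵁ W)) y) := by
  have e₁ : p ⁻¹ᵁ W ≤ Δ ⁻¹ᵁ (π₁ ⁻¹ᵁ (p ⁻¹ᵁ W)) := le_of_eq (by rw [← Scheme.Hom.comp_preimage Δ π₁, hΔ₁]; rfl)
  have e₂ : p ⁻¹ᵁ W ≤ Δ ⁻¹ᵁ (π₂ ⁻¹ᵁ (p ⁻¹ᵁ W)) := le_of_eq (by rw [← Scheme.Hom.comp_preimage Δ π₂, hΔ₂]; rfl)
  show resM V e₁ _ = resM V e₂ _
  rw [Coherent.app_resM]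
  exact resM_resM V _ _ _

/-- The counit of a finite etale morphism splits. -/
theorem isSplitEpi_counit {X X' : Scheme.{u}} (p : X' ⟶ X) [IsFinite p] [Etale p]
    (V : X'.Modules) [Coh.IsQCoh V] :
    IsSplitEpi ((Scheme.Modules.pullbackPushforwardAdjunction p).counit.app V) := by
  let π₁ := pullback.fst p p
  let π₂ := pullback.snd p p
  let Δ := pullback.diagonal p
  have h : IsPullback π₂ π₁ p p := (IsPullback.of_hasPullback p p).flip
  have hΔ₁ : Δ ≫ π₁ = 𝟙 X' := pullback.diagonal_fst p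
  have hΔ₂ : Δ ≫ π₂ = 𝟙 X' := pullback.diagonal_snd p
  let adjp := Scheme.Modules.pullbackPushforwardAdjunction p
  let adj₂ := Scheme.Modules.pullbackPushforwardAdjunction π₂
  let adjΔ := Scheme.Modules.restrictAdjunction Δ
  let iso₂ := Scheme.Modules.pushforwardComp Δ π₂ ≪≫ Scheme.Modules.pushforwardCongr hΔ₂ ≪≫
    Scheme.Modules.pushforwardId X'
  let iso₁ := Scheme.Modules.pushforwardComp Δ π₁ ≪≫ Scheme.Modules.pushforwardCongr hΔ₁ ≪≫
    Scheme.Modules.pushforwardId X'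
  let adj := (adj₂.comp adjΔ).ofNatIsoRight iso₂
  have hρi : IsIso (adj.counit.app V) := inferInstance
  let ρ : (Scheme.Modules.restrictFunctor Δ).obj ((Scheme.Modules.pullback π₂).obj V) ⟶ V :=
    adj.counit.app V
  let r : (Scheme.Modules.pullback π₂).obj V ⟶ (Scheme.Modules.pushforward Δ).obj V :=
    adjΔ.unit.app _ ≫ (Scheme.Modules.pushforward Δ).map ρ
  have htri : adj₂.unit.app V ≫ (Scheme.Modules.pushforward π₂).map r ≫ iso₂.hom.app V = 𝟙 V := by
    have h0 := adj.right_triangle_components V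
    have nat := iso₂.hom.naturality ρ
    have hu : adj.unit.app V = adj₂.unit.app V ≫
        (Scheme.Modules.pushforward π₂).map (adjΔ.unit.app _) ≫ iso₂.hom.app _ := by
      simp [adj, Adjunction.ofNatIsoRight]
    simp only [Functor.id_obj, Functor.id_map] at h0
    erw [hu] at h0
    simp only [Functor.id_map, Functor.comp_map, Category.assoc] at h0 nat
    refine Eq.trans ?_ h0
    simp only [r, Functor.map_comp, Category.assoc]
    exact congrArg (fun t => adj₂.unit.app V ≫ (Scheme.Modules.pushforward π₂).map (adjΔ.unit.app _) ≫ t) nat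
  have hr : IsSplitEpi r := by
    have := isSplitEpi_unit Δ ((Scheme.Modules.pullback π₂).obj V)
    have : IsIso ((Scheme.Modules.pushforward Δ).map ρ) := inferInstance
    exact IsSplitEpi.mk' ⟨inv ((Scheme.Modules.pushforward Δ).map ρ) ≫ section_ (adjΔ.unit.app _),
      by simp [r]⟩
  have := RelVALib.isIso_bcHom h V
  have key : adjp.counit.app V =
      RelVALib.bcHom h V ≫ (Scheme.Modules.pushforward π₁).map r ≫ iso₁.hom.app V := by
    refine (adjp.homEquiv _ _).injective ?_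
    conv_rhs => rw [Adjunction.homEquiv_naturality_right, RelVALib.bcHom, Equiv.apply_symm_apply]
    rw [show (adjp.homEquiv _ _) (adjp.counit.app V) = 𝟙 _ by simp [Adjunction.homEquiv_unit]]
    rw [← CategoryTheory.Functor.map_id (Scheme.Modules.pushforward p), ← htri]
    ext W s
    simp [Scheme.Modules.Hom.comp_app]
    exact (key_sec π₁ π₂ Δ p h.w hΔ₁ hΔ₂ r W _).symm.trans rfl
  rw [key]
  exact IsSplitEpi.mk' ⟨inv (iso₁.hom.app V) ≫ (Scheme.Modules.pushforward π₁).map (section_ r) ≫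
    inv (RelVALib.bcHom h V), by simp [← Functor.map_comp_assoc]⟩

end Groth.Agent.FinEtSplit28
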